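import Groth.Agent.RegImm.K561.PChart

/-!
# The standard affine charts of a blow-up as open immersions
-/

set_option autoImplicit false
universe u

open CategoryTheory CategoryTheory.Limits AlgebraicGeometry Opposite TopologicalSpace BlowUp

namespace K561.BChart

open Groth.Agent.Sga67.Sec Groth.Agent.Sga67.LocBasis Groth.Agent.Sga67.LocBasisStalk
open Groth.Agent.Krr.H487.LocBasisPull Groth.Agent.Krr.H496.GenLocus Groth.Agent.Krr.H496.ProjCrit
open Groth.Agent.Krr.H496.ExcChart Groth.Agent.Krr.H496.ExcCoord Groth.Agent.Divis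
open Groth.Agent.Divis.BlowChart Groth.Agent.Dix.IdealModCartier K561.PChart

variable {X X' : Scheme.{u}} {V : X.affineOpens} {J : X.IdealSheafData} {f : X' ⟶ X} {n : ℕ}
  {t : Fin n → Γ(X, V.1)} {j : Fin n} {D : X'.IdealSheafData}
  {σ : Fin n → Sec (ClSub.idealMod D) (f ⁻¹ᵁ V.1)}

/-- The chart of the blow-up is an open immersion onto the locus where `σ j` generates. -/
theorem isOpenImmersion_chart (hf : IsBlowUp f J) (hD : D = J.comap f)
    (hJ : J.ideal V = Ideal.span (Set.range t)) (hσ : ∀ i, val D (σ i) = f.app V.1 (t i))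
    {c : Spec (CommRingCat.of ↥(affineAlgebra Γ(X, V.1) (Ideal.span (Set.range t)) (t j))) ⟶ X'}
    (hc : c ≫ f = chartMap (Ideal.span (Set.range t)) (t j) ≫ V.2.fromSpec) :
    ∃ _ : IsOpenImmersion c, c.opensRange = genLocus (σ j) := by
  obtain ⟨l, hl⟩ := exists_toChart (j := j) hf.1 hD hJ hσ
  have hlc := toChart_ofChart hf hl hc
  have hle := top_le_chart hf.1 hD hJ hσ hc
  have hr : Set.range c ⊆ Set.range (genLocus (σ j)).ι := by
    rintro _ ⟨x, rfl⟩
    rw [Scheme.Opens.range_ι]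
    exact hle (show x ∈ (⊤ : (Spec (CommRingCat.of _)).Opens) from trivial)
  have hfac : IsOpenImmersion.lift (genLocus (σ j)).ι c hr ≫ (genLocus (σ j)).ι = c :=
    IsOpenImmersion.lift_fac _ _ _
  refine isOpenImmersion_of_inverse c (genLocus (σ j)) l hlc _ hfac ?_
  obtain ⟨y, hy⟩ := exists_coordFam (σ := σ) (j := j) (le_refl (genLocus (σ j)))
  apply chart_hom_ext V t j
  · rw [Category.assoc, hl, ← Category.assoc, hfac, hc, Category.id_comp]
  · intro i
    rw [glob_comp, RingHom.comp_apply, glob_toChart hf.1 hD hσ hy hl i]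
    rw [← appLE_chart hf.1 hD hJ hσ hc hy i]
    have h7 := Scheme.Hom.appLE_comp_appLE (IsOpenImmersion.lift (genLocus (σ j)).ι c hr)
      (genLocus (σ j)).ι (genLocus (σ j)) ⊤ ⊤ ((genLocus (σ j)).ι_preimage_self.ge) le_top
    have h8 := appLE_congr_hom hfac (U := genLocus (σ j)) (W := ⊤) (by
      rw [Scheme.Hom.comp_preimage]
      exact (IsOpenImmersion.lift (genLocus (σ j)).ι c hr).preimage_mono
        ((genLocus (σ j)).ι_preimage_self.ge)) hle (y i)
    refine Eq.trans ?_ h8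
    rw [← h7, appLE_top]
    rfl

variable {P : Scheme.{u}} {E : X.Modules} {π : P ⟶ X} {O1 : P.Modules}
  {q : (Scheme.Modules.pullback π).obj E ⟶ O1} {e : Fin n → Sec E V.1}

/-- The charts of the blow-up and of the bundle are compatible. -/
theorem chart_comm (hC : ChartCond π q e j) (hf : IsBlowUp f J) (hD : D = J.comap f)
    (hJ : J.ideal V = Ideal.span (Set.range t)) {k : X' ⟶ P} (hk : k ≫ π = f)
    (ε : (Scheme.Modules.pullback k).obj O1 ≅ ClSub.idealMod D)
    (hσ : ∀ i, val D (appS ε.hom (f ⁻¹ᵁ V.1) (sg (bc k q hk) e i)) = f.app V.1 (t i))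
    {c : Spec (CommRingCat.of ↥(affineAlgebra Γ(X, V.1) (Ideal.span (Set.range t)) (t j))) ⟶ X'}
    (hc : c ≫ f = chartMap (Ideal.span (Set.range t)) (t j) ≫ V.2.fromSpec)
    {φ : Spec (CommRingCat.of (PR V j)) ⟶ P} (hφ : φ ≫ π = str V j)
    (hcφ : CoordOn (bc φ q hφ) e j ⊤ (fun i => glob (𝟙 _) (uc V j i))) :
    c ≫ k = Spec.map (CommRingCat.ofHom (Groth.Agent.Sga67.BlowQuot.Φ t j).toRingHom) ≫ φ := by
  obtain ⟨y, hy⟩ := exists_coordFam
    (σ := fun i => appS ε.hom (f ⁻¹ᵁ V.1) (sg (bc k q hk) e i)) (j := j) (le_refl _)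
  have hle := top_le_chart hf.1 hD hJ hσ hc
  have hyc := appLE_chart hf.1 hD hJ hσ hc hy
  have h1 : CoordOn (bc k q hk ≫ ε.hom) e j _ y := ⟨hy.le, hy.gen, hy.eq⟩
  have h2 : CoordOn (bc k q hk) e j _ y := h1.iso ε.symm (by simp)
  have h3 := h2.pull c (g' := c ≫ f) rfl (W' := ⊤) hle
  have hck : (c ≫ k) ≫ π = c ≫ f := by rw [Category.assoc, hk]
  have h4 := h3.comp (k'' := c ≫ k) rfl hck
  have hΦC : (Groth.Agent.Sga67.BlowQuot.Φ t j).toRingHom.comp
      (MvPolynomial.C : Γ(X, V.1) →+* PR V j) = algebraMap Γ(X, V.1) _ := by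
    ext x
    simp [Groth.Agent.Sga67.BlowQuot.Φ]
  have hΦs : Spec.map (CommRingCat.ofHom (Groth.Agent.Sga67.BlowQuot.Φ t j).toRingHom) ≫ str V j =
      c ≫ f := by
    rw [hc]
    unfold str
    rw [← Category.assoc, ← Spec.map_comp, ← CommRingCat.ofHom_comp, hΦC]
  have hΦφ : (Spec.map (CommRingCat.ofHom (Groth.Agent.Sga67.BlowQuot.Φ t j).toRingHom) ≫ φ) ≫ π =
      c ≫ f := by
    rw [Category.assoc, hφ, hΦs]
  refine hC.uniq _ (c ≫ f) _ _ hck hΦφ _ h4 ?_
  have h5 := (hcφ.pull (Spec.map (CommRingCat.ofHom (Groth.Agent.Sga67.BlowQuot.Φ t j).toRingHom))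
    (g' := c ≫ f) hΦs (W' := ⊤) le_top).comp (k'' := _ ≫ φ) rfl hΦφ
  have h6 : (fun i => (Spec.map (CommRingCat.ofHom
      (Groth.Agent.Sga67.BlowQuot.Φ t j).toRingHom)).appLE ⊤ ⊤ le_top (glob (𝟙 _) (uc V j i))) =
      fun i => c.appLE _ ⊤ hle (y i) := by
    funext i
    refine Eq.trans ?_ (hyc i).symm
    rw [appLE_top]
    have h7 := glob_comp (Spec.map (CommRingCat.ofHom (Groth.Agent.Sga67.BlowQuot.Φ t j).toRingHom))
      (𝟙 (Spec (CommRingCat.of (PR V j))))
    rw [Category.comp_id] at h7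
    have h8 := glob_map (Groth.Agent.Sga67.BlowQuot.Φ t j).toRingHom (𝟙 _)
    rw [Category.id_comp] at h8
    have h9 : (Groth.Agent.Sga67.BlowQuot.Φ t j).toRingHom (uc V j i) =
        Groth.Agent.Sga67.BlowQuot.fr t j i := by
      by_cases h : i = j
      · subst h
        rw [uc_self, map_one, Groth.Agent.Sga67.BlowQuot.fr_self]
      · rw [uc_ne V j ⟨i, h⟩]
        simp [Groth.Agent.Sga67.BlowQuot.Φ]
    rw [← h9]
    exact (congr($h7 (uc V j i))).symm.trans congr($h8 (uc V j i))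
  rw [← h6]
  exact h5

end K561.BChart
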