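import Groth.Agent.RegImm.K561.LocStr
import Groth.Agent.Synt.K561.RegImmDict
import Groth.Agent.KoszSh.K880.Acyclic
import Groth.Agent.Krr.H495.Rank
import Groth.Agent.Krr.H487.KerRank
import Groth.Prelude.Def_RegImm

/-!
# The blow-up of a Koszul-regular cosection inside the projective bundle

`exists_local`: around every point of the projective bundle there is a standard chart over which the blow-up is
the closed subscheme cut out by the Koszul-regular sequence `u(e_j) y_i - u(e_i)`.
-/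

set_option autoImplicit false
universe u

open CategoryTheory CategoryTheory.Limits AlgebraicGeometry Opposite TopologicalSpace BlowUp

namespace K561.BlowBundle

open Groth.Agent.Sga67.Sec Groth.Agent.Sga67.LocBasis Groth.Agent.Sga67.LocBasisStalk
open Groth.Agent.Krr.H487.LocBasisPull Groth.Agent.Krr.H496.GenLocus Groth.Agent.Krr.H496.ProjCrit
open Groth.Agent.Krr.H496.ExcChart Groth.Agent.Krr.H496.ExcCoord Groth.Agent.Divis
open Groth.Agent.Divis.BlowChart Groth.Agent.Dix.IdealModCartier K561.PChart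

variable {X X' P : Scheme.{u}}

section Ideal

variable {E : X.Modules} (u : E ⟶ Coh.structureModule X)

/-- The values of a cosection on a family of sections. -/
noncomputable def vals {U : X.Opens} {n : ℕ} (e : Fin n → Sec E U) (i : Fin n) : Γ(X, U) :=
  toO (appS u U (e i))

theorem span_vals {U : X.Opens} {n : ℕ} {e : Fin n → Sec E U} (he : IsLocBasis e) :
    @Ideal.span Γ(X, U) _ (Set.range fun s : E.val.obj (op U) => ((u.val.app (op U)).hom s : Γ(X, U))) =
      Ideal.span (Set.range (vals u e)) := by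
  apply le_antisymm
  · rw [Ideal.span_le]
    rintro _ ⟨s, rfl⟩
    obtain ⟨c, hc⟩ := (he U le_rfl).2 s
    have h1 : toO (appS u U s) = ∑ i, c i * vals u e i := by
      rw [← hc, appS_comb, comb_apply]
      have h2 : ∀ w : Fin n → Sec (Coh.structureModule X) U,
          toO (∑ i, w i) = ∑ i, toO (w i) := fun w => rfl
      rw [h2]
      refine Finset.sum_congr rfl fun i _ => ?_
      rw [toO_smul, res_self]
      rfl
    change toO (appS u U s) ∈ _
    rw [h1]
    exact Ideal.sum_mem _ fun i _ => Ideal.mul_mem_left _ _ (Ideal.subset_span ⟨i, rfl⟩)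
  · rw [Ideal.span_le]
    rintro _ ⟨i, rfl⟩
    exact Ideal.subset_span ⟨e i, rfl⟩

end Ideal

section Comp

variable {E : X.Modules} {u : E ⟶ Coh.structureModule X} {J : X.IdealSheafData} {π : P ⟶ X}
  {O1 : P.Modules} {q : (Scheme.Modules.pullback π).obj E ⟶ O1} {f : X' ⟶ X} {j : X' ⟶ P}
  {hjπ : j ≫ π = f} {ε : (Scheme.Modules.pullback j).obj O1 ≅ ClSub.idealMod (BlowUp.exceptional f J)}

/-- The compatibility of the isomorphism `j^* O(1) ≅ J'` in terms of sections. -/
theorem val_of_comp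
    (hcomp : (Scheme.Modules.pullbackCongr hjπ).inv.app E ≫ (Scheme.Modules.pullbackComp j π).inv.app E ≫
        (Scheme.Modules.pullback j).map q ≫ ε.hom ≫ ClSub.idealModι (BlowUp.exceptional f J) =
      (Scheme.Modules.pullback f).map u ≫
        ((Scheme.Modules.pullbackPushforwardAdjunction f).homEquiv _ _).symm
          (SheafOfModules.unitToPushforwardObjUnit f.toRingCatSheafHom))
    {U : X.Opens} {n : ℕ} (e : Fin n → Sec E U) (i : Fin n) :
    val (BlowUp.exceptional f J) (appS ε.hom (f ⁻¹ᵁ U) (sg (bc j q hjπ) e i)) =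
      f.app U (vals u e i) := by
  have h1 : bc j q hjπ ≫ ε.hom ≫ ClSub.idealModι (BlowUp.exceptional f J) =
      (Scheme.Modules.pullback f).map u ≫ adj f
          (SheafOfModules.unitToPushforwardObjUnit f.toRingCatSheafHom) := by
    unfold bc
    rw [Category.assoc, Category.assoc]
    exact hcomp
  have h2 := congr(appS $h1 (f ⁻¹ᵁ U) (pbS f E (e i)))
  rw [appS_comp, appS_comp, appS_comp, appS_pbS, adj_pbS] at h2
  exact h2

end Comp

section Main

variable (E : X.Modules) (hE : FlatMod.IsFinLocFree E) (u : E ⟶ Coh.structureModule X)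
    (hu : ∀ x : X, ∃ U : X.affineOpens, x ∈ U.1 ∧
      ∃ (n : ℕ) (b : Module.Basis (Fin n) Γ(X, U.1) (E.val.obj (op U.1))),
        LCI.IsKoszulRegularSeq Γ(X, U.1) (List.ofFn fun k => ((u.val.app (op U.1)).hom (b k) : Γ(X, U.1))))
    (J : X.IdealSheafData) (hJ : ∀ U : X.affineOpens, J.ideal U = @Ideal.span Γ(X, U.1) _ (Set.range fun s : E.val.obj (op U.1) => ((u.val.app (op U.1)).hom s : Γ(X, U.1))))
    (π : P ⟶ X) (O1 : P.Modules) (q : (Scheme.Modules.pullback π).obj E ⟶ O1) (hP : KRR.IsProjBundle π E O1 q)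
    (f : X' ⟶ X) (hf : BlowUp.IsBlowUp f J)
    (j : X' ⟶ P) (hjπ : j ≫ π = f)
    (e : (Scheme.Modules.pullback j).obj O1 ≅ ClSub.idealMod (BlowUp.exceptional f J))
    (hcomp : (Scheme.Modules.pullbackCongr hjπ).inv.app E ≫ (Scheme.Modules.pullbackComp j π).inv.app E ≫
        (Scheme.Modules.pullback j).map q ≫ e.hom ≫ ClSub.idealModι (BlowUp.exceptional f J) =
      (Scheme.Modules.pullback f).map u ≫
        ((Scheme.Modules.pullbackPushforwardAdjunction f).homEquiv _ _).symm
          (SheafOfModules.unitToPushforwardObjUnit f.toRingCatSheafHom))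

include hE hu hJ hP hf hjπ hcomp

/-- Around every point of the bundle there is a standard chart in which the blow-up is cut out by the
Koszul-regular sequence `u(b_k) y_i - u(b_i)`. -/
theorem exists_local (z : P) : ∃ (V : X.affineOpens) (n : ℕ) (b : Fin n → Sec E V.1) (k : Fin n),
    IsLocBasis b ∧ LCI.IsKoszulRegularSeq Γ(X, V.1) (List.ofFn (vals u b)) ∧ z ∈ genLocus (sg q b k) ∧
    IsAffineOpen (genLocus (sg q b k)) ∧ IsAffineOpen (j ⁻¹ᵁ genLocus (sg q b k)) ∧
      Function.Surjective (j.app (genLocus (sg q b k))).hom ∧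
      ∃ (y : Fin n → Γ(P, genLocus (sg q b k))) (_ : CoordOn q b k (genLocus (sg q b k)) y)
        (rs : List Γ(P, genLocus (sg q b k))), rs.length = n - 1 ∧
        LCI.IsKoszulRegularSeq Γ(P, genLocus (sg q b k)) rs ∧
        RingHom.ker (j.app (genLocus (sg q b k))).hom = Ideal.ofList rs ∧
        ∀ x, x ∈ rs ↔ ∃ i : {i : Fin n // i ≠ k},
          (π.appLE V.1 (genLocus (sg q b k)) (genLocus_le _)).hom (vals u b k) * y i.1 -
            (π.appLE V.1 (genLocus (sg q b k)) (genLocus_le _)).hom (vals u b i.1) = x := by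
  obtain ⟨V, hzV, n, B, hB⟩ := hu (π z)
  let b : Fin n → Sec E V.1 := fun i => B i
  have hb : IsLocBasis b := K880.Acyclic.isLocBasis_of_isQCoh
    (Groth.Agent.Ega2.QCohLocal.isQCoh_of_isFinLocFree hE) V.2 B
  have hO1 : IsInv O1 := isInv_iff.2 hP.invertible
  have := hP.epi
  obtain ⟨k, hk⟩ := exists_mem_genLocus hO1 q (isLocBasis_pbS π hb) (x := z) hzV
  exact ⟨V, n, b, k, hb, hB, hk, LocStr.main (PBCond.chartCond hP hb k) hO1 hf rfl
    ((hJ V).trans (span_vals u hb)) hjπ e (fun i => val_of_comp hcomp b i) hB⟩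

theorem isClosedImmersion : IsClosedImmersion j := by
  choose V n b k hb hKos hz h1 h2 h3 _ using
    exists_local E hE u hu J hJ π O1 q hP f hf j hjπ e hcomp
  rw [IsZariskiLocalAtTarget.iff_of_iSup_eq_top (P := @IsClosedImmersion)
    (fun z : P => genLocus (sg q (b z) (k z)))
    (eq_top_iff.2 fun z _ => Opens.mem_iSup.2 ⟨z, hz z⟩)]
  intro z
  exact (K561.RegImmDict.isClosedImmersion_restrict_iff j _ (h1 z)).2 ⟨h2 z, h3 z⟩

theorem isRegularImmersion : RegImm.IsRegularImmersion .koszul j := by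
  have := isClosedImmersion E hE u hu J hJ π O1 q hP f hf j hjπ e hcomp
  refine ⟨inferInstance, fun z => ?_⟩
  obtain ⟨V, n, b, k, hb, hKos, hz, h1, h2, h3, y, hy, rs, h4, h5, h6, -⟩ :=
    exists_local E hE u hu J hJ π O1 q hP f hf j hjπ e hcomp (j z)
  exact ⟨⟨_, h1⟩, hz, (K561.RegImmDict.isClosedImmersion_restrict_iff j _ h1).2 ⟨h2, h3⟩, rs, h5, h6⟩

theorem isRegularImmersionOfCodim (c : ℕ) (hEc : FlatMod.IsFinLocFreeOfRank c E) :
    RegImm.IsRegularImmersionOfCodim .koszul (c - 1) j := by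
  have := isClosedImmersion E hE u hu J hJ π O1 q hP f hf j hjπ e hcomp
  refine ⟨inferInstance, fun z => ?_⟩
  obtain ⟨V, n, b, k, hb, hKos, hz, h1, h2, h3, y, hy, rs, h4, h5, h6, -⟩ :=
    exists_local E hE u hu J hJ π O1 q hP f hf j hjπ e hcomp (j z)
  refine ⟨⟨_, h1⟩, hz, (K561.RegImmDict.isClosedImmersion_restrict_iff j _ h1).2 ⟨h2, h3⟩, rs, ?_, h5, h6⟩
  have hx : π (j z) ∈ V.1 := (genLocus_le _ : _ ≤ π ⁻¹ᵁ V.1) hz
  have hc : c = n := by
    obtain ⟨U', hxU', b', hb'⟩ :=
      (Groth.Agent.Krr.H487.KerRank.isFinLocFreeOfRank_iff E).1 hEc (π (j z))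
    have e1 := Groth.Agent.Krr.H495.Rank.rk_eq_of_isLocBasis hb' hxU'
    have e2 := Groth.Agent.Krr.H495.Rank.rk_eq_of_isLocBasis hb hx
    rw [e1, Fintype.card_fin, Fintype.card_fin] at e2
    exact e2
  rw [h4, hc]

end Main

end K561.BlowBundle
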