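import Groth.Agent.Sga67.BlowPerf2
import Groth.Agent.Sga67.BlowQuot

/-!
# The kernel of the presentation of the affine blow-up algebra is generated by a Koszul-regular sequence
-/

set_option autoImplicit false
universe u

open MvPolynomial BlowUp

namespace K561.BlowList

open Groth.Agent.Sga67.BlowPerf Groth.Agent.Sga67.BlowQuot

variable {A : Type u} [CommRing A]

theorem ofFn_perm_cons {R : Type*} {m : ℕ} (t : Fin (m + 1) → R) (k : Fin (m + 1)) :
    (List.ofFn t).Perm (t k :: List.ofFn fun i => t (k.succAbove i)) := by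
  rw [← Multiset.coe_eq_coe, ← Multiset.cons_coe]
  have h1 : ((List.ofFn t : List R) : Multiset R) = Finset.univ.val.map t := by
    rw [Fin.univ_val_map]
  have h2 : ((List.ofFn fun i => t (k.succAbove i) : List R) : Multiset R) =
      Finset.univ.val.map (fun i => t (k.succAbove i)) := by
    rw [Fin.univ_val_map]
  rw [h1, h2, Fin.univ_succAbove m k]
  simp only [Finset.cons_val, Multiset.map_cons, Finset.map_val, Multiset.map_map]
  rfl

/-- The kernel of `A[T_i] → A[J/f_k]` for a Koszul-regular sequence. -/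
theorem exists_list {n : ℕ} (t : Fin n → A) (k : Fin n) (ht : LCI.IsKoszulRegularSeq A (List.ofFn t)) :
    ∃ l : List (MvPolynomial {i : Fin n // i ≠ k} A), l.length = n - 1 ∧
      LCI.IsKoszulRegularSeq (MvPolynomial {i : Fin n // i ≠ k} A) l ∧
      RingHom.ker (Φ t k) = Ideal.ofList l ∧
      (∀ x, x ∈ l ↔ ∃ i : {i : Fin n // i ≠ k}, C (t k) * X i - C (t i.1) = x) := by
  obtain ⟨m, rfl⟩ : ∃ m, n = m + 1 := ⟨n - 1, by have := k.pos; omega⟩
  rw [Groth.Agent.Flat2H.KoszulBC.isKoszulRegularSeq_perm_iff (ofFn_perm_cons t k)] at ht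
  obtain ⟨hK, hreg⟩ := isKoszulRegularSeq_eqs (t k) (fun i => t (k.succAbove i)) ht
  have hI : Ideal.span (Set.range t) =
      Ideal.span {t k} ⊔ Ideal.span (Set.range fun i => t (k.succAbove i)) := by
    rw [← Ideal.span_union]
    congr 1
    ext x
    constructor
    · rintro ⟨i, rfl⟩
      rcases Fin.eq_self_or_eq_succAbove k i with h | ⟨i', h⟩
      · exact Or.inl (by rw [h]; rfl)
      · exact Or.inr ⟨i', by rw [h]⟩
    · rintro (h | ⟨i, rfl⟩)
      · exact ⟨k, h.symm⟩
      · exact ⟨_, rfl⟩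
  have hker := ker_pres (t k) (fun i => t (k.succAbove i)) hI hreg
  let ε : MvPolynomial (Fin m) A ≃ₐ[A] MvPolynomial {i : Fin (m + 1) // i ≠ k} A :=
    renameEquiv A (finSuccAboveEquiv k)
  have hΦ : (Φ t k).comp ε.toAlgHom = pres (t k) (fun i => t (k.succAbove i)) hI := by
    ext i
    have e1 : ε (X i) = X (finSuccAboveEquiv k i) := by simp [ε]
    change ((Φ t k (ε (X i)) : affineAlgebra A (Ideal.span (Set.range t)) (t k)) :
      Localization.Away (t k)) = _
    rw [e1]
    have e2 : Φ t k (X (finSuccAboveEquiv k i)) = fr t k (k.succAbove i) := by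
      simp [Φ, finSuccAboveEquiv_apply]
    rw [e2, pres_X]
    rfl
  refine ⟨(eqs (t k) fun i => t (k.succAbove i)).map ε.toRingEquiv, ?_, ?_, ?_, ?_⟩
  · simp [eqs]
  · exact (Groth.Agent.Flat2H.KoszulLoc.isKoszulRegularSeq_map_ringEquiv_iff ε.toRingEquiv _).2 hK
  · have h1 : Ideal.ofList ((eqs (t k) fun i => t (k.succAbove i)).map ε.toRingEquiv) =
        (Ideal.ofList (eqs (t k) fun i => t (k.succAbove i))).map
          (ε.toRingEquiv : MvPolynomial (Fin m) A →+* MvPolynomial {i : Fin (m + 1) // i ≠ k} A) :=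
      (Ideal.map_ofList _ _).symm
    rw [h1, ← hker, ← hΦ]
    apply le_antisymm
    · intro x hx
      obtain ⟨y, rfl⟩ := ε.surjective x
      refine Ideal.mem_map_of_mem
        (ε.toRingEquiv : MvPolynomial (Fin m) A →+* MvPolynomial {i : Fin (m + 1) // i ≠ k} A) ?_
      exact hx
    · rw [Ideal.map_le_iff_le_comap]
      intro x hx
      exact hx
  · intro x
    have e1 : ∀ i, ε (X i) = X (finSuccAboveEquiv k i) := fun i => by simp [ε]
    have e3 : ∀ r, ε (C r) = C r := fun r => by simp [ε]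
    have e2 : ∀ i, ε.toRingEquiv (C (t k) * X i - C (t (k.succAbove i))) =
        C (t k) * X (finSuccAboveEquiv k i) - C (t (finSuccAboveEquiv k i).1) := by
      intro i
      change ε _ = _
      rw [map_sub, map_mul, e1, e3, e3, finSuccAboveEquiv_apply]
    unfold eqs
    rw [List.map_ofFn, List.mem_ofFn]
    constructor
    · rintro ⟨i, rfl⟩
      exact ⟨finSuccAboveEquiv k i, (e2 i).symm⟩
    · rintro ⟨i, rfl⟩
      obtain ⟨i', rfl⟩ := (finSuccAboveEquiv k).surjective i
      exact ⟨i', e2 i'⟩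

end K561.BlowList
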