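import Groth.Agent.RegImm.K561.BChart
import Groth.Agent.RegImm.K561.BlowList

/-!
# The blow-up of a Koszul-regular ideal inside the projective bundle, locally
-/

set_option autoImplicit false
universe u

open CategoryTheory CategoryTheory.Limits AlgebraicGeometry Opposite TopologicalSpace BlowUp

namespace K561.LocStr

open Groth.Agent.Sga67.Sec Groth.Agent.Sga67.LocBasis Groth.Agent.Sga67.LocBasisStalk
open Groth.Agent.Krr.H487.LocBasisPull Groth.Agent.Krr.H496.GenLocus Groth.Agent.Krr.H496.ProjCrit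
open Groth.Agent.Krr.H496.ExcChart Groth.Agent.Krr.H496.ExcCoord Groth.Agent.Divis
open Groth.Agent.Divis.BlowChart Groth.Agent.Dix.IdealModCartier K561.PChart

theorem bijective_appLE {S P : Scheme.{u}} (φ : S ⟶ P) [IsOpenImmersion φ] {D : P.Opens}
    (hD : φ.opensRange = D) (h : ⊤ ≤ φ ⁻¹ᵁ D) : Function.Bijective (φ.appLE D ⊤ h).hom := by
  subst hD
  have h1 : IsIso (φ.app φ.opensRange) := φ.isIso_app _ le_rfl
  have h2 : IsIso (S.presheaf.map (homOfLE h).op) := by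
    have : IsIso (homOfLE h) := ⟨homOfLE le_top, Subsingleton.elim _ _, Subsingleton.elim _ _⟩
    infer_instance
  have h3 : IsIso (φ.appLE φ.opensRange ⊤ h) := by
    rw [Scheme.Hom.appLE]
    infer_instance
  exact (ConcreteCategory.isIso_iff_bijective _).1 h3

theorem bijective_glob_id (R : Type u) [CommRing R] :
    Function.Bijective (glob (𝟙 (Spec (CommRingCat.of R)))) := by
  have h0 : (𝟙 (Spec (CommRingCat.of R)) :
      Spec (CommRingCat.of R) ⟶ Spec (CommRingCat.of R)).appTop = 𝟙 _ := Scheme.Hom.id_app _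
  have : IsIso ((Scheme.ΓSpecIso (CommRingCat.of R)).inv ≫ (𝟙 (Spec (CommRingCat.of R)) :
      Spec (CommRingCat.of R) ⟶ Spec (CommRingCat.of R)).appTop) := by
    rw [h0]; infer_instance
  exact (ConcreteCategory.isIso_iff_bijective _).1 this

/-- The ring isomorphism of an affine chart. -/
noncomputable def chartEquiv {P : Scheme.{u}} {R : Type u} [CommRing R]
    (φ : Spec (CommRingCat.of R) ⟶ P) [IsOpenImmersion φ] {D : P.Opens}
    (hD : φ.opensRange = D) (h : ⊤ ≤ φ ⁻¹ᵁ D) : R ≃+* Γ(P, D) :=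
  (RingEquiv.ofBijective _ (bijective_glob_id R)).trans
    (RingEquiv.ofBijective _ (bijective_appLE φ hD h)).symm

theorem chartEquiv_spec {P : Scheme.{u}} {R : Type u} [CommRing R]
    (φ : Spec (CommRingCat.of R) ⟶ P) [IsOpenImmersion φ] {D : P.Opens}
    (hD : φ.opensRange = D) (h : ⊤ ≤ φ ⁻¹ᵁ D) (r : R) :
    (φ.appLE D ⊤ h).hom (chartEquiv φ hD h r) = glob (𝟙 _) r :=
  (RingEquiv.ofBijective _ (bijective_appLE φ hD h)).apply_symm_apply _

theorem chartEquiv_eq {P : Scheme.{u}} {R : Type u} [CommRing R]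
    (φ : Spec (CommRingCat.of R) ⟶ P) [IsOpenImmersion φ] {D : P.Opens}
    (hD : φ.opensRange = D) (h : ⊤ ≤ φ ⁻¹ᵁ D) (r : R) {x : Γ(P, D)}
    (hx : (φ.appLE D ⊤ h).hom x = glob (𝟙 _) r) : chartEquiv φ hD h r = x :=
  (bijective_appLE φ hD h).1 ((chartEquiv_spec φ hD h r).trans hx.symm)

section Square

variable {X' P : Scheme.{u}} {R B : Type u} [CommRing R] [CommRing B]
  {k : X' ⟶ P} {φ : Spec (CommRingCat.of R) ⟶ P} {c : Spec (CommRingCat.of B) ⟶ X'}
  [IsOpenImmersion φ] [IsOpenImmersion c] {Ψ : R →+* B}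
  (hsq : c ≫ k = Spec.map (CommRingCat.ofHom Ψ) ≫ φ)
  {D : P.Opens} (hD : φ.opensRange = D) (h : ⊤ ≤ φ ⁻¹ᵁ D)
  (hD' : c.opensRange = k ⁻¹ᵁ D) (h' : ⊤ ≤ c ⁻¹ᵁ (k ⁻¹ᵁ D))

include hsq in
theorem app_chartEquiv (r : R) :
    (k.app D).hom (chartEquiv φ hD h r) = chartEquiv c hD' h' (Ψ r) := by
  symm
  apply chartEquiv_eq
  have e1 := Scheme.Hom.appLE_comp_appLE c k D (k ⁻¹ᵁ D) ⊤ le_rfl h'
  have e2 : k.appLE D (k ⁻¹ᵁ D) le_rfl = k.app D := by
    rw [Scheme.Hom.appLE]; simp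
  rw [e2] at e1
  have e3 : (⊤ : (Spec (CommRingCat.of B)).Opens) ≤ (c ≫ k) ⁻¹ᵁ D := h'
  have e4 : (⊤ : (Spec (CommRingCat.of B)).Opens) ≤ (Spec.map (CommRingCat.ofHom Ψ) ≫ φ) ⁻¹ᵁ D := by
    rw [← hsq]; exact h'
  have e5 := Scheme.Hom.appLE_comp_appLE (Spec.map (CommRingCat.ofHom Ψ)) φ D ⊤ ⊤ h le_top
  have e6 := appLE_congr_hom hsq (U := D) (W := ⊤) e3 e4 (chartEquiv φ hD h r)
  have e7 : (c.appLE (k ⁻¹ᵁ D) ⊤ h').hom ((k.app D).hom (chartEquiv φ hD h r)) =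
      ((Spec.map (CommRingCat.ofHom Ψ)).appLE ⊤ ⊤ le_top).hom ((φ.appLE D ⊤ h).hom
        (chartEquiv φ hD h r)) :=
    (congr($e1 (chartEquiv φ hD h r))).trans (e6.trans (congr($e5 (chartEquiv φ hD h r))).symm)
  rw [e7, chartEquiv_spec, appLE_top]
  have h7 := glob_comp (Spec.map (CommRingCat.ofHom Ψ)) (𝟙 (Spec (CommRingCat.of R)))
  rw [Category.comp_id] at h7
  have h8 := glob_map Ψ (𝟙 _)
  rw [Category.id_comp] at h8
  exact (congr($h7 r)).symm.trans congr($h8 r)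

include hsq hD h h' in
theorem app_surjective (hΨ : Function.Surjective Ψ) (hD' : c.opensRange = k ⁻¹ᵁ D) :
    Function.Surjective (k.app D).hom := by
  intro y
  obtain ⟨b, rfl⟩ := (chartEquiv c hD' h').surjective y
  obtain ⟨r, rfl⟩ := hΨ b
  exact ⟨chartEquiv φ hD h r, app_chartEquiv hsq hD h hD' h' r⟩

include hsq h' in
theorem ker_app (hD' : c.opensRange = k ⁻¹ᵁ D) :
    RingHom.ker (k.app D).hom = (RingHom.ker Ψ).map (chartEquiv φ hD h : R →+* Γ(P, D)) := by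
  apply le_antisymm
  · intro x hx
    obtain ⟨r, rfl⟩ := (chartEquiv φ hD h).surjective x
    refine Ideal.mem_map_of_mem (chartEquiv φ hD h : R →+* Γ(P, D)) ?_
    rw [RingHom.mem_ker, app_chartEquiv hsq hD h hD' h' r] at hx
    rw [RingHom.mem_ker]
    exact (map_eq_zero_iff _ (chartEquiv c hD' h').injective).1 hx
  · rw [Ideal.map_le_iff_le_comap]
    intro r hr
    rw [Ideal.mem_comap, RingHom.mem_ker]
    refine (app_chartEquiv hsq hD h hD' h' r).trans ?_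
    rw [RingHom.mem_ker.1 hr, map_zero]

end Square

variable {X X' P : Scheme.{u}} {V : X.affineOpens} {J : X.IdealSheafData} {f : X' ⟶ X} {n : ℕ}
  {t : Fin n → Γ(X, V.1)} {j : Fin n} {D : X'.IdealSheafData}
  {E : X.Modules} {π : P ⟶ X} {O1 : P.Modules}
  {q : (Scheme.Modules.pullback π).obj E ⟶ O1} {e : Fin n → Sec E V.1}

/-- The local structure of the blow-up inside the projective bundle. -/
theorem main_aux (hC : ChartCond π q e j) (hO1 : IsInv O1) (hf : IsBlowUp f J) (hD : D = J.comap f)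
    (hJ : J.ideal V = Ideal.span (Set.range t)) {k : X' ⟶ P} (hk : k ≫ π = f)
    (ε : (Scheme.Modules.pullback k).obj O1 ≅ ClSub.idealMod D)
    (hσ : ∀ i, val D (appS ε.hom (f ⁻¹ᵁ V.1) (sg (bc k q hk) e i)) = f.app V.1 (t i))
    (ht : LCI.IsKoszulRegularSeq Γ(X, V.1) (List.ofFn t)) {G : P.Opens}
    (hG : genLocus (sg q e j) = G) (hDV : G ≤ π ⁻¹ᵁ V.1) :
    IsAffineOpen G ∧ IsAffineOpen (k ⁻¹ᵁ G) ∧ Function.Surjective (k.app G).hom ∧
      ∃ (y : Fin n → Γ(P, G)) (_ : CoordOn q e j G y)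
        (rs : List Γ(P, G)), rs.length = n - 1 ∧ LCI.IsKoszulRegularSeq Γ(P, G) rs ∧
        RingHom.ker (k.app G).hom = Ideal.ofList rs ∧
        ∀ x, x ∈ rs ↔ ∃ i : {i : Fin n // i ≠ j},
          (π.appLE V.1 G hDV).hom (t j) * y i.1 - (π.appLE V.1 G hDV).hom (t i.1) = x := by
  obtain ⟨c, hc⟩ := exists_ofChart (t := t) (j := j) hf hJ
  obtain ⟨hoc, hrc⟩ := BChart.isOpenImmersion_chart (j := j) hf hD hJ hσ hc
  obtain ⟨φ, hφ, hcφ⟩ := exists_chart hC
  obtain ⟨hoφ, hrφ⟩ := PChart.isOpenImmersion_chart hC hO1 hφ hcφ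
  have hsq := BChart.chart_comm hC hf hD hJ hk ε hσ hc hφ hcφ
  have hrc' : c.opensRange = k ⁻¹ᵁ (genLocus (sg q e j)) := by
    rw [hrc, genLocus_appS]
    subst hk
    rw [sg_bc]
    exact genLocus_pbS k hO1 (sg q e j)
  obtain ⟨y, hy⟩ := exists_coordOn (s := q) (e := e) (j := j) hG.ge
  rw [hG] at hrφ hrc'
  have h : (⊤ : (Spec (CommRingCat.of (PR V j))).Opens) ≤ φ ⁻¹ᵁ G := by
    rw [← hrφ]; simp
  have h' : (⊤ : (Spec (CommRingCat.of _)).Opens) ≤ c ⁻¹ᵁ (k ⁻¹ᵁ G) := by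
    rw [← hrc']; simp
  obtain ⟨l, hl1, hl2, hl3, hl4⟩ := BlowList.exists_list t j ht
  have hΨ : Function.Surjective (Groth.Agent.Sga67.BlowQuot.Φ t j).toRingHom :=
    Groth.Agent.Sga67.BlowQuot.Φ_surjective t j
  have hX : ∀ i : {i : Fin n // i ≠ j},
      chartEquiv φ hrφ h (MvPolynomial.X i) = y i.1 := by
    intro i
    apply chartEquiv_eq
    have hy' : CoordOn (bc φ q hφ) e j ⊤ (fun i => φ.appLE G ⊤ h (y i)) := hy.pull φ hφ h
    rw [← uc_ne V j i]
    exact congrFun (hy'.unique hcφ) i.1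
  have hCc : ∀ r : Γ(X, V.1), chartEquiv φ hrφ h (MvPolynomial.C r) =
      (π.appLE V.1 G hDV).hom r := by
    intro r
    apply chartEquiv_eq
    have e1 := Scheme.Hom.appLE_comp_appLE φ π V.1 G ⊤ hDV h
    have e2 := glob_eq V (Spec.map (CommRingCat.ofHom (MvPolynomial.C : Γ(X, V.1) →+* PR V j)))
      (g := str V j) rfl (top_le_str V j)
    have e3 := appLE_congr_hom hφ (U := V.1) (W := ⊤) (h.trans (φ.preimage_mono hDV))
      (top_le_str V j) r
    have h8 := glob_map (MvPolynomial.C : Γ(X, V.1) →+* PR V j) (𝟙 _)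
    rw [Category.id_comp] at h8
    exact (congr($e1 r)).trans (e3.trans ((congr($e2 r)).symm.trans congr($h8 r)))
  refine ⟨hrφ ▸ isAffineOpen_opensRange φ, hrc' ▸ isAffineOpen_opensRange c,
    app_surjective hsq hrφ h h' hΨ hrc', y, hy,
    l.map (chartEquiv φ hrφ h), by rw [List.length_map, hl1], ?_, ?_, ?_⟩
  · exact (Groth.Agent.Flat2H.KoszulLoc.isKoszulRegularSeq_map_ringEquiv_iff
      (chartEquiv φ hrφ h) _).2 hl2
  · rw [ker_app hsq hrφ h h' hrc']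
    have : RingHom.ker (Groth.Agent.Sga67.BlowQuot.Φ t j).toRingHom = Ideal.ofList l := hl3
    rw [this, Ideal.map_ofList]
    rfl
  · intro x
    rw [List.mem_map]
    constructor
    · rintro ⟨a, ha, rfl⟩
      obtain ⟨i, rfl⟩ := (hl4 a).1 ha
      refine ⟨i, ?_⟩
      rw [map_sub, map_mul, hX, hCc, hCc]
    · rintro ⟨i, rfl⟩
      refine ⟨_, (hl4 _).2 ⟨i, rfl⟩, ?_⟩
      rw [map_sub, map_mul, hX, hCc, hCc]

/-- The local structure of the blow-up inside the projective bundle. -/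
theorem main (hC : ChartCond π q e j) (hO1 : IsInv O1) (hf : IsBlowUp f J) (hD : D = J.comap f)
    (hJ : J.ideal V = Ideal.span (Set.range t)) {k : X' ⟶ P} (hk : k ≫ π = f)
    (ε : (Scheme.Modules.pullback k).obj O1 ≅ ClSub.idealMod D)
    (hσ : ∀ i, val D (appS ε.hom (f ⁻¹ᵁ V.1) (sg (bc k q hk) e i)) = f.app V.1 (t i))
    (ht : LCI.IsKoszulRegularSeq Γ(X, V.1) (List.ofFn t)) :
    IsAffineOpen (genLocus (sg q e j)) ∧ IsAffineOpen (k ⁻¹ᵁ genLocus (sg q e j)) ∧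
      Function.Surjective (k.app (genLocus (sg q e j))).hom ∧
      ∃ (y : Fin n → Γ(P, genLocus (sg q e j))) (_ : CoordOn q e j (genLocus (sg q e j)) y)
        (rs : List Γ(P, genLocus (sg q e j))), rs.length = n - 1 ∧
        LCI.IsKoszulRegularSeq Γ(P, genLocus (sg q e j)) rs ∧
        RingHom.ker (k.app (genLocus (sg q e j))).hom = Ideal.ofList rs ∧
        ∀ x, x ∈ rs ↔ ∃ i : {i : Fin n // i ≠ j},
          (π.appLE V.1 (genLocus (sg q e j)) (genLocus_le _)).hom (t j) * y i.1 -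
            (π.appLE V.1 (genLocus (sg q e j)) (genLocus_le _)).hom (t i.1) = x :=
  main_aux hC hO1 hf hD hJ hk ε hσ ht rfl (genLocus_le _)

end K561.LocStr
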