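import Groth.Agent.Krr.H496.ExcChart
import Groth.Agent.Krr.H490.PBChart
import Groth.Prelude.Def_KRR

/-!
# Charts of a projective bundle: the chart condition and the standard affine charts
-/

set_option autoImplicit false
universe u

open CategoryTheory CategoryTheory.Limits AlgebraicGeometry Opposite TopologicalSpace

namespace K561.PBCond

open Groth.Agent.Sga67.Sec Groth.Agent.Sga67.LocBasis Groth.Agent.Sga67.LocBasisStalk
open Groth.Agent.Krr.H487.LocBasisPull Groth.Agent.Krr.H496.GenLocus Groth.Agent.Krr.H496.ProjCrit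
open Groth.Agent.Krr.H496.ExcChart Groth.Agent.Divis Groth.Agent.Divis.BlowChart

variable {X T P : Scheme.{u}} {E : X.Modules} {π : P ⟶ X} {O1 : P.Modules}
  {q : (Scheme.Modules.pullback π).obj E ⟶ O1}

theorem isInv_structureModule (T : Scheme.{u}) : IsInv (Coh.structureModule T) := by
  rw [isInv_iff]
  exact Groth.Agent.Ega2.QCohLocal.isFinLocFreeOfRank_one_iff.2 (by
    rw [Groth.Agent.Fdesc.LocGen.isInvertible_iff]
    exact fun y => ⟨⊤, Groth.Agent.Fdesc.LocGen.one ⊤, trivial, Groth.Agent.Fdesc.LocGen.isGen_one ⊤⟩)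

/-- The classifying morphism of an invertible quotient. -/
theorem exists_hom_of_quotient (hP : KRR.IsProjBundle π E O1 q) (g : T ⟶ X) {L : T.Modules}
    (hL : IsInv L) (s : (Scheme.Modules.pullback g).obj E ⟶ L) [Epi s] :
    ∃ (h : T ⟶ P) (hh : h ≫ π = g) (v : (Scheme.Modules.pullback h).obj O1 ≅ L),
      bc h q hh ≫ v.hom = s := by
  obtain ⟨h, ⟨hg, v, hv⟩, -⟩ := hP.univ T g L (isInv_iff.1 hL) s inferInstance
  refine ⟨h, hg, v, ?_⟩
  rw [← hv]
  unfold bc
  simp only [Category.assoc]

theorem hom_unique_of_quotient (hP : KRR.IsProjBundle π E O1 q) (g : T ⟶ X) {L : T.Modules}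
    (hL : IsInv L) (s : (Scheme.Modules.pullback g).obj E ⟶ L) [Epi s] {h h' : T ⟶ P}
    (hh : h ≫ π = g) (hh' : h' ≫ π = g) (v : (Scheme.Modules.pullback h).obj O1 ≅ L)
    (v' : (Scheme.Modules.pullback h').obj O1 ≅ L) (hv : bc h q hh ≫ v.hom = s)
    (hv' : bc h' q hh' ≫ v'.hom = s) : h = h' := by
  obtain ⟨k, -, hk⟩ := hP.univ T g L (isInv_iff.1 hL) s inferInstance
  have h1 := hk h ⟨hh, v, by rw [← hv]; unfold bc; simp only [Category.assoc]⟩
  have h2 := hk h' ⟨hh', v', by rw [← hv']; unfold bc; simp only [Category.assoc]⟩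
  rw [h1, h2]

/-- A projective bundle satisfies the chart condition for every local basis. -/
theorem chartCond (hP : KRR.IsProjBundle π E O1 q) {U : X.Opens} {n : ℕ} {e : Fin n → Sec E U}
    (he : IsLocBasis e) (j : Fin n) : ChartCond π q e j := by
  have hO1 : IsInv O1 := isInv_iff.2 hP.invertible
  have := hP.epi
  constructor
  · intro T g h h' hh hh' a H H'
    obtain ⟨v, hv⟩ := exists_iso_of_coordOn (bc h' q hh') (bc h q hh)
      (fun t => ⟨U, n, e, j, ⊤, a, he, trivial, H', H⟩)
    exact hom_unique_of_quotient hP g (isInv_pullback h hO1) (bc h q hh) hh hh' (Iso.refl _) v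
      (Category.comp_id _) hv
  · intro T g hg a ha
    have hb : IsLocBasis (fun i => res ((Scheme.Modules.pullback g).obj E) hg (pbS g E (e i))) :=
      (isLocBasis_pbS g he).restrict hg
    obtain ⟨s, hs⟩ := Groth.Agent.Krr.H490.PBChart.exists_hom_of_locBasis hb
      (N := Coh.structureModule T) (fun k => a k • one T ⊤)
    have hsj : appS s ⊤ (res ((Scheme.Modules.pullback g).obj E) hg (pbS g E (e j))) = one T ⊤ := by
      rw [hs, ha, one_smul]
    have : Epi s := epi_of_locally_surjective s (fun V r x hx => ⟨V, le_rfl, hx,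
      toO r • res _ le_top (res ((Scheme.Modules.pullback g).obj E) hg (pbS g E (e j))), by
        rw [map_smul, appS_res, hsj, res_one, toO_smul_one, res_self]⟩)
    obtain ⟨h, hh, v, hv⟩ := exists_hom_of_quotient hP g (isInv_structureModule T) s
    refine ⟨h, hh, ?_⟩
    have h1 : CoordOn s e j ⊤ a := by
      refine ⟨hg, ?_, fun i => ?_⟩
      · have h2 : res (Coh.structureModule T) hg (sg s e j) = one T ⊤ := by
          rw [← hsj]
          exact (appS_res s hg _).symm
        rw [h2]
        exact isGen_iff.2 (Groth.Agent.Fdesc.LocGen.isGen_one ⊤)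
      · have h2 : ∀ k, res (Coh.structureModule T) hg (sg s e k) = a k • one T ⊤ := by
          intro k
          rw [← hs]
          exact (appS_res s hg _).symm
        rw [h2, h2, ha, one_smul]
    exact h1.iso v.symm (by rw [← hv]; simp)

end K561.PBCond
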