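import Groth.Agent.RegImm.K561.PBCond

/-!
# The standard affine charts of a projective bundle, as open immersions of polynomial rings
-/

set_option autoImplicit false
universe u

open CategoryTheory CategoryTheory.Limits AlgebraicGeometry Opposite TopologicalSpace

namespace K561.PChart

open Groth.Agent.Sga67.Sec Groth.Agent.Sga67.LocBasis Groth.Agent.Sga67.LocBasisStalk
open Groth.Agent.Krr.H487.LocBasisPull Groth.Agent.Krr.H496.GenLocus Groth.Agent.Krr.H496.ProjCrit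
open Groth.Agent.Krr.H496.ExcChart Groth.Agent.Divis Groth.Agent.Divis.BlowChart

/-- `m.appLE ⊤ ⊤` is `m.appTop`. -/
theorem appLE_top {T T' : Scheme.{u}} (w : T ⟶ T') : w.appLE ⊤ ⊤ le_top = w.appTop := by
  rw [Scheme.Hom.appLE]; simp

/-- A morphism with a left inverse up to an open immersion, whose lift is a right inverse, is an open immersion. -/
theorem isOpenImmersion_of_inverse {S P : Scheme.{u}} (φ : S ⟶ P) (D : P.Opens)
    (ψ : (D : Scheme.{u}) ⟶ S) (h1 : ψ ≫ φ = D.ι) (φ' : S ⟶ (D : Scheme.{u})) (h2 : φ' ≫ D.ι = φ)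
    (h3 : φ' ≫ ψ = 𝟙 S) : ∃ _ : IsOpenImmersion φ, φ.opensRange = D := by
  have h4 : ψ ≫ φ' = 𝟙 _ := by
    rw [← cancel_mono D.ι, Category.assoc, h2, h1, Category.id_comp]
  have : IsIso φ' := ⟨ψ, h3, h4⟩
  subst h2
  have h5 : IsOpenImmersion (φ' ≫ D.ι) := inferInstance
  refine ⟨h5, ?_⟩
  rw [Scheme.Hom.opensRange_comp_of_isIso, Scheme.Opens.opensRange_ι]

theorem appLE_congr_hom {T T' : Scheme.{u}} {k k' : T ⟶ T'} (h : k = k') {U : T'.Opens} {W : T.Opens}
    (hk : W ≤ k ⁻¹ᵁ U) (hk' : W ≤ k' ⁻¹ᵁ U) (x : Γ(T', U)) :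
    (k.appLE U W hk).hom x = (k'.appLE U W hk').hom x := by
  subst h
  rfl

variable {X T P : Scheme.{u}} {E : X.Modules} {π : P ⟶ X} {O1 : P.Modules}
  {q : (Scheme.Modules.pullback π).obj E ⟶ O1}
  (V : X.affineOpens) {n : ℕ} (j : Fin n)

/-- The coordinate ring of the standard chart. -/
abbrev PR : Type u := MvPolynomial {i : Fin n // i ≠ j} Γ(X, V.1)

/-- The structure morphism of the standard chart. -/
noncomputable def str : Spec (CommRingCat.of (PR V j)) ⟶ X :=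
  Spec.map (CommRingCat.ofHom (MvPolynomial.C : Γ(X, V.1) →+* PR V j)) ≫ V.2.fromSpec

/-- The universal coordinates. -/
noncomputable def uc (i : Fin n) : PR V j := if h : i = j then 1 else MvPolynomial.X ⟨i, h⟩

theorem uc_self : uc V j j = 1 := dif_pos rfl

theorem uc_ne (i : {i : Fin n // i ≠ j}) : uc V j i.1 = MvPolynomial.X i := dif_neg i.2

theorem top_le_str : (⊤ : (Spec (CommRingCat.of (PR V j))).Opens) ≤ (str V j) ⁻¹ᵁ V.1 := by
  unfold str
  rw [Scheme.Hom.comp_preimage, V.2.fromSpec_preimage_self]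
  rfl

variable {V j} {e : Fin n → Sec E V.1}

theorem exists_chart (hC : ChartCond π q e j) :
    ∃ (φ : Spec (CommRingCat.of (PR V j)) ⟶ P) (hφ : φ ≫ π = str V j),
      CoordOn (bc φ q hφ) e j ⊤ (fun i => glob (𝟙 _) (uc V j i)) :=
  hC.exist _ _ (top_le_str V j) _ (by rw [uc_self, map_one])

theorem le_preimage_genLocus_sg (hO1 : IsInv O1) {g : T ⟶ X} {k : T ⟶ P} (hk : k ≫ π = g) {W : T.Opens}
    {a : Fin n → Γ(T, W)} (h : CoordOn (bc k q hk) e j W a) :
    W ≤ k ⁻¹ᵁ (genLocus (sg q e j)) := by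
  subst hk
  have h1 := h.le_genLocus
  rw [sg_bc] at h1
  exact h1.trans (genLocus_pbS k hO1 (sg q e j)).le

/-- The chart is an open immersion onto the locus where `q(e_j)` generates. -/
theorem isOpenImmersion_chart (hC : ChartCond π q e j) (hO1 : IsInv O1)
    {φ : Spec (CommRingCat.of (PR V j)) ⟶ P} (hφ : φ ≫ π = str V j)
    (hc : CoordOn (bc φ q hφ) e j ⊤ (fun i => glob (𝟙 _) (uc V j i))) :
    ∃ _ : IsOpenImmersion φ, φ.opensRange = genLocus (sg q e j) := by
  have hle : (⊤ : (Spec (CommRingCat.of (PR V j))).Opens) ≤ φ ⁻¹ᵁ (genLocus (sg q e j)) :=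
    le_preimage_genLocus_sg hO1 hφ hc
  have hDV : genLocus (sg q e j) ≤ π ⁻¹ᵁ V.1 := genLocus_le _
  obtain ⟨y, hy⟩ := exists_coordOn (s := q) (e := e) (j := j) (le_refl (genLocus (sg q e j)))
  generalize genLocus (sg q e j) = D at hle hDV y hy ⊢
  have hg : (⊤ : (D : Scheme.{u}).Opens) ≤ (D.ι ≫ π) ⁻¹ᵁ V.1 := by
    rw [Scheme.Hom.comp_preimage, ← D.ι_preimage_self]
    exact D.ι.preimage_mono hDV
  obtain ⟨m, hm⟩ := exists_fac V (D.ι ≫ π) hg
  let a : Fin n → Γ((D : Scheme.{u}), ⊤) := fun i => D.ι.appLE D ⊤ (top_le_ι D) (y i)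
  let θ : PR V j →+* Γ((D : Scheme.{u}), ⊤) := MvPolynomial.eval₂Hom (glob (A := Γ(X, V.1)) m) (fun i => a i.1)
  let ψ : (D : Scheme.{u}) ⟶ Spec (CommRingCat.of (PR V j)) :=
    (D : Scheme.{u}).toSpecΓ ≫ Spec.map (CommRingCat.ofHom θ)
  have hψ : glob ψ = θ := glob_toSpecΓ_map θ
  have ha : CoordOn (bc D.ι q rfl) e j ⊤ a := hy.pull D.ι rfl (top_le_ι D)
  have haj : a j = 1 := ha.self
  have hθ : ∀ i, θ (uc V j i) = a i := by
    intro i
    by_cases h : i = j
    · subst h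
      rw [uc_self, map_one, haj]
    · rw [uc_ne V j ⟨i, h⟩]
      exact MvPolynomial.eval₂Hom_X' _ _ _
  have hψC : ψ ≫ Spec.map (CommRingCat.ofHom (MvPolynomial.C : Γ(X, V.1) →+* PR V j)) = m := by
    apply hom_ext_glob
    rw [glob_map, hψ]
    ext x
    exact MvPolynomial.eval₂Hom_C _ _ _
  have hstr : ψ ≫ str V j = D.ι ≫ π := by
    unfold str
    rw [← Category.assoc, hψC, hm]
  have h1 : ψ ≫ φ = D.ι := by
    refine hC.uniq _ (D.ι ≫ π) _ _ (by rw [Category.assoc, hφ, hstr]) rfl a ?_ ha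
    have h2 := (hc.pull ψ (g' := D.ι ≫ π) hstr (W' := ⊤) le_top).comp (k'' := ψ ≫ φ) rfl
      (by rw [Category.assoc, hφ, hstr])
    have h3 : (fun i => ψ.appLE ⊤ ⊤ le_top (glob (𝟙 _) (uc V j i))) = a := by
      funext i
      rw [appLE_top, ← hθ i, ← hψ]
      have h4 := glob_comp ψ (𝟙 (Spec (CommRingCat.of (PR V j))))
      rw [Category.comp_id] at h4
      rw [h4]
      rfl
    rw [← h3]
    exact h2
  have hr : Set.range φ ⊆ Set.range D.ι := by
    rintro _ ⟨x, rfl⟩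
    rw [Scheme.Opens.range_ι]
    exact hle (show x ∈ (⊤ : (Spec (CommRingCat.of (PR V j))).Opens) from trivial)
  have hfac : IsOpenImmersion.lift D.ι φ hr ≫ D.ι = φ := IsOpenImmersion.lift_fac _ _ _
  refine isOpenImmersion_of_inverse φ D ψ h1 (IsOpenImmersion.lift D.ι φ hr) hfac ?_
  generalize IsOpenImmersion.lift D.ι φ hr = φ' at hfac
  have hy' : CoordOn (bc φ q hφ) e j ⊤ (fun i => φ.appLE D ⊤ hle (y i)) := hy.pull φ hφ hle
  have hyu := hy'.unique hc
  apply hom_ext_glob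
  rw [glob_comp, hψ]
  apply MvPolynomial.ringHom_ext
  · intro r
    have h5 : φ' ≫ m = Spec.map (CommRingCat.ofHom (MvPolynomial.C : Γ(X, V.1) →+* PR V j)) := by
      rw [← cancel_mono V.2.fromSpec, Category.assoc, hm, ← Category.assoc, hfac, hφ]
      rfl
    have h6 : (φ'.appTop).hom (glob (A := Γ(X, V.1)) m r) = glob (𝟙 _) (MvPolynomial.C r : PR V j) := by
      have h7 := glob_comp (A := Γ(X, V.1)) φ' m
      rw [h5] at h7
      have h8 := glob_map (MvPolynomial.C : Γ(X, V.1) →+* PR V j) (𝟙 _)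
      rw [Category.id_comp] at h8
      exact (congr($h7 r)).symm.trans congr($h8 r)
    rw [← h6]
    exact congrArg (φ'.appTop).hom (MvPolynomial.eval₂Hom_C _ _ _)
  · intro i
    have h6 : (φ'.appTop).hom (a i.1) = glob (𝟙 _) (uc V j i.1) := by
      rw [← congrFun hyu i.1]
      have h7 := Scheme.Hom.appLE_comp_appLE φ' D.ι D ⊤ ⊤ (top_le_ι D) le_top
      have h8 := appLE_congr_hom hfac (U := D) (W := ⊤) (by
        rw [Scheme.Hom.comp_preimage]
        exact φ'.preimage_mono (top_le_ι D)) hle (y i.1)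
      refine Eq.trans ?_ h8
      rw [← h7, appLE_top]
      rfl
    rw [uc_ne] at h6
    rw [← h6]
    exact congrArg (φ'.appTop).hom (MvPolynomial.eval₂Hom_X' _ _ _)

end K561.PChart
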